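import Groth.Agent.DefGlue.Scheme
import Groth.Agent.ArtFunLib.Hull

/-!
# The deformation functor and fibre products of Artin rings
-/

set_option autoImplicit false
set_option backward.isDefEq.respectTransparency false
universe u

open CategoryTheory CategoryTheory.Limits AlgebraicGeometry
open ArtFun ArtFun.Art

namespace Groth.Agent.DefGlue

variable {Λ k : Type u} [CommRing Λ] [Field k] [Algebra Λ k] {X : Scheme.{u}} {x : X ⟶ specPt k}

lemma baseChange_i_fst' {A B : Art Λ k} (ξ : DefSch X x A) (g : A ⟶ B) :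
    (ξ.baseChange g).i ≫ pullback.fst ξ.f (specMap g) = ξ.i := DefSch.baseChange_i_fst ξ g

/-- The map to `ξ` of an isomorphic copy of a base change. -/
noncomputable def projOf {A B : Art Λ k} {ξ : DefSch X x A} {g : A ⟶ B} {ζ : DefSch X x B}
    (e : ζ.Iso (ξ.baseChange g)) : ζ.total ⟶ ξ.total := e.iso.hom ≫ pullback.fst ξ.f (specMap g)

lemma projOf_f {A B : Art Λ k} {ξ : DefSch X x A} {g : A ⟶ B} {ζ : DefSch X x B}
    (e : ζ.Iso (ξ.baseChange g)) : projOf e ≫ ξ.f = ζ.f ≫ specMap g := by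
  rw [projOf, Category.assoc, pullback.condition, ← Category.assoc, e.hom_f]

lemma i_projOf {A B : Art Λ k} {ξ : DefSch X x A} {g : A ⟶ B} {ζ : DefSch X x B}
    (e : ζ.Iso (ξ.baseChange g)) : ζ.i ≫ projOf e = ξ.i := by
  rw [projOf, ← Category.assoc, e.i_hom, baseChange_i_fst']

/-- The base change of an isomorphism followed by the projection. -/
lemma baseChange_hom_fst {A B : Art Λ k} {ξ ζ : DefSch X x A} (e : ξ.Iso ζ) (g : A ⟶ B) :
    (e.baseChange g).iso.hom ≫ pullback.fst ζ.f (specMap g) = pullback.fst ξ.f (specMap g) ≫ e.iso.hom :=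
  DefSch.pullMap_fst e.iso.hom e.hom_f g

variable {B A A' A'' : Art Λ k} {p' : B ⟶ A'} {p'' : B ⟶ A''} {f' : A' ⟶ A} {f'' : A'' ⟶ A}

/-- Deformations over `A'` and `A''` with isomorphic reductions over `A` come from one over `B`. -/
theorem cmp_surjective (h : IsFibreProd p' p'' f' f'') (hf'' : Function.Surjective f'') :
    Function.Surjective (ArtFun.cmp (ArtFun.defFunctor X x) h) := by
  rintro ⟨⟨a, b⟩, hab⟩
  induction a using Quotient.inductionOn with
  | h ξ' =>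
  induction b using Quotient.inductionOn with
  | h ξ'' =>
  obtain ⟨e⟩ : Nonempty ((ξ'.baseChange f').Iso (ξ''.baseChange f'')) :=
    Quotient.exact (s := DefSch.setoid X x A) hab
  obtain ⟨ξ, b, a, hb, hbi, ha, hai, -⟩ := exists_glue h hf'' (ξ'.baseChange f') ξ' ξ''
    (pullback.fst ξ'.f (specMap f')) pullback.condition (baseChange_i_fst' ξ' f')
    (projOf e) (projOf_f e) (i_projOf e)
  refine ⟨DefSch.cl ξ, ?_⟩
  refine ArtFun.FibProd.ext ?_ ?_
  · exact Quotient.sound (s := DefSch.setoid X x A') ⟨(isoBaseChange b hb hbi).symm⟩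
  · exact Quotient.sound (s := DefSch.setoid X x A'') ⟨(isoBaseChange a ha hai).symm⟩

/-- Two deformations over `B` with compatibly isomorphic restrictions are isomorphic, compatibly. -/
theorem exists_iso_of_compat (h : IsFibreProd p' p'' f' f'') (hf'' : Function.Surjective f'')
    (ξ ζ : DefSch X x B) (η : DefSch X x A) (ξ' : DefSch X x A') (ξ'' : DefSch X x A'')
    (m' : η.total ⟶ ξ'.total) (hm'f : m' ≫ ξ'.f = η.f ≫ specMap f') (hm'i : η.i ≫ m' = ξ'.i)
    (m'' : η.total ⟶ ξ''.total) (hm''f : m'' ≫ ξ''.f = η.f ≫ specMap f'') (hm''i : η.i ≫ m'' = ξ''.i)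
    (b : ξ'.total ⟶ ξ.total) (hb : b ≫ ξ.f = ξ'.f ≫ specMap p') (hbi : ξ'.i ≫ b = ξ.i)
    (a : ξ''.total ⟶ ξ.total) (ha : a ≫ ξ.f = ξ''.f ≫ specMap p'') (hai : ξ''.i ≫ a = ξ.i)
    (hab : m' ≫ b = m'' ≫ a)
    (d : ξ'.total ⟶ ζ.total) (hd : d ≫ ζ.f = ξ'.f ≫ specMap p') (hdi : ξ'.i ≫ d = ζ.i)
    (c : ξ''.total ⟶ ζ.total) (hc : c ≫ ζ.f = ξ''.f ≫ specMap p'') (hci : ξ''.i ≫ c = ζ.i)
    (hdc : m' ≫ d = m'' ≫ c) :
    ∃ e : ξ.Iso ζ, b ≫ e.iso.hom = d ∧ a ≫ e.iso.hom = c := by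
  obtain ⟨ξ₀, b₀, a₀, hb₀, hbi₀, ha₀, -, hpo⟩ := exists_glue h hf'' η ξ' ξ'' m' hm'f hm'i m'' hm''f hm''i
  let φ : ξ₀.total ⟶ ξ.total := hpo.desc a b hab.symm
  let ψ : ξ₀.total ⟶ ζ.total := hpo.desc c d hdc.symm
  have hφf : φ ≫ ξ.f = ξ₀.f := hpo.hom_ext
    (by rw [← Category.assoc, hpo.inl_desc, ha, ha₀]) (by rw [← Category.assoc, hpo.inr_desc, hb, hb₀])
  have hψf : ψ ≫ ζ.f = ξ₀.f := hpo.hom_ext
    (by rw [← Category.assoc, hpo.inl_desc, hc, ha₀]) (by rw [← Category.assoc, hpo.inr_desc, hd, hb₀])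
  have hφi : ξ₀.i ≫ φ = ξ.i := by rw [← hbi₀, Category.assoc, hpo.inr_desc, hbi]
  have hψi : ξ₀.i ≫ ψ = ζ.i := by rw [← hbi₀, Category.assoc, hpo.inr_desc, hdi]
  let eφ := isoOfUnder φ hφf hφi
  refine ⟨eφ.symm.trans (isoOfUnder ψ hψf hψi), ?_, ?_⟩
  · show b ≫ eφ.iso.inv ≫ ψ = d
    rw [show b = b₀ ≫ eφ.iso.hom from (hpo.inr_desc _ _ _).symm, Category.assoc, Iso.hom_inv_id_assoc, hpo.inr_desc]
  · show a ≫ eφ.iso.inv ≫ ψ = c
    rw [show a = a₀ ≫ eφ.iso.hom from (hpo.inl_desc _ _ _).symm, Category.assoc, Iso.hom_inv_id_assoc, hpo.inl_desc]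

/-- Injectivity of the comparison map when automorphisms lift along `f''`. -/
theorem cmp_injective (h : IsFibreProd p' p'' f' f'') (hf'' : Function.Surjective f'')
    (hlift : ∀ ζ'' : DefSch X x A'', Function.Surjective (fun e : ζ''.Iso ζ'' => e.baseChange f'')) :
    Function.Injective (ArtFun.cmp (ArtFun.defFunctor X x) h) := by
  intro zξ zζ hz
  induction zξ using Quotient.inductionOn with
  | h ξ =>
  induction zζ using Quotient.inductionOn with
  | h ζ =>
  have hz' := congrArg Subtype.val hz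
  obtain ⟨α'⟩ : Nonempty ((ξ.baseChange p').Iso (ζ.baseChange p')) :=
    Quotient.exact (s := DefSch.setoid X x A') (congrArg Prod.fst hz')
  obtain ⟨α''⟩ : Nonempty ((ξ.baseChange p'').Iso (ζ.baseChange p'')) :=
    Quotient.exact (s := DefSch.setoid X x A'') (congrArg Prod.snd hz')
  -- the common restriction
  let η := (ξ.baseChange p').baseChange f'
  let m' : η.total ⟶ (ξ.baseChange p').total := pullback.fst _ _
  have hm'f : m' ≫ (ξ.baseChange p').f = η.f ≫ specMap f' := pullback.condition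
  have hm'i : η.i ≫ m' = (ξ.baseChange p').i := baseChange_i_fst' _ _
  have hbf : pullback.fst ξ.f (specMap p') ≫ ξ.f = (ξ.baseChange p').f ≫ specMap p' := pullback.condition
  have hwspec : specMap f'' ≫ specMap p'' = specMap f' ≫ specMap p' := by
    rw [← specMap_comp, ← specMap_comp, h.w]
  let m'' : η.total ⟶ (ξ.baseChange p'').total :=
    pullback.lift (m' ≫ pullback.fst ξ.f (specMap p')) (η.f ≫ specMap f'') (by
      rw [Category.assoc, Category.assoc, hbf, reassoc_of% hm'f, hwspec])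
  have hm''f : m'' ≫ (ξ.baseChange p'').f = η.f ≫ specMap f'' := pullback.lift_snd _ _ _
  have hm''fst : m'' ≫ pullback.fst ξ.f (specMap p'') = m' ≫ pullback.fst ξ.f (specMap p') :=
    pullback.lift_fst _ _ _
  have hm''i : η.i ≫ m'' = (ξ.baseChange p'').i := by
    apply pullback.hom_ext
    · rw [Category.assoc, hm''fst, reassoc_of% hm'i, baseChange_i_fst', baseChange_i_fst']
    · rw [Category.assoc, pullback.lift_snd, reassoc_of% (DefSch.baseChange_i_f (ξ.baseChange p') f'),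
        specRes_comp]
      exact (DefSch.baseChange_i_f ξ p'').symm
  -- the two restrictions of the isomorphisms
  let μ : η.total ⟶ ζ.total := m' ≫ α'.iso.hom ≫ pullback.fst ζ.f (specMap p')
  have hμf : μ ≫ ζ.f = (η.f ≫ specMap f'') ≫ specMap p'' := by
    simp only [μ, Category.assoc, pullback.condition]
    rw [reassoc_of% α'.hom_f, reassoc_of% hm'f, hwspec]
  let m₁ : η.total ⟶ (ζ.baseChange p'').total := pullback.lift μ (η.f ≫ specMap f'') hμf
  have hm₁f : m₁ ≫ (ζ.baseChange p'').f = η.f ≫ specMap f'' := pullback.lift_snd _ _ _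
  have hm₁i : η.i ≫ m₁ = (ζ.baseChange p'').i := by
    apply pullback.hom_ext
    · rw [Category.assoc, pullback.lift_fst, baseChange_i_fst']
      simp only [μ]
      rw [reassoc_of% hm'i, reassoc_of% α'.i_hom, baseChange_i_fst']
    · rw [Category.assoc, pullback.lift_snd, reassoc_of% (DefSch.baseChange_i_f (ξ.baseChange p') f'),
        specRes_comp]
      exact (DefSch.baseChange_i_f ζ p'').symm
  let m₂ : η.total ⟶ (ζ.baseChange p'').total := m'' ≫ α''.iso.hom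
  have hm₂f : m₂ ≫ (ζ.baseChange p'').f = η.f ≫ specMap f'' := by
    rw [Category.assoc, α''.hom_f, hm''f]
  have hm₂i : η.i ≫ m₂ = (ζ.baseChange p'').i := by rw [reassoc_of% hm''i, α''.i_hom]
  let β₁ := isoBaseChange m₁ hm₁f hm₁i
  let β₂ := isoBaseChange m₂ hm₂f hm₂i
  obtain ⟨e, he⟩ := hlift (ζ.baseChange p'') (β₂.symm.trans β₁)
  have hme : m₂ ≫ e.iso.hom = m₁ := by
    have h1 : m₂ = β₂.iso.hom ≫ pullback.fst (ζ.baseChange p'').f (specMap f'') := (pullback.lift_fst _ _ _).symm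
    have h2 : m₁ = β₁.iso.hom ≫ pullback.fst (ζ.baseChange p'').f (specMap f'') := (pullback.lift_fst _ _ _).symm
    rw [h1, Category.assoc, ← baseChange_hom_fst e f'', show e.baseChange f'' = β₂.symm.trans β₁ from he, h2,
      ← Category.assoc]
    congr 1
    exact β₂.iso.hom_inv_id_assoc β₁.iso.hom
  obtain ⟨i, -, -⟩ := exists_iso_of_compat h hf'' ξ ζ η _ _ m' hm'f hm'i m'' hm''f hm''i
    (pullback.fst ξ.f (specMap p')) hbf (baseChange_i_fst' ξ p')
    (pullback.fst ξ.f (specMap p'')) pullback.condition (baseChange_i_fst' ξ p'') hm''fst.symm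
    (α'.iso.hom ≫ pullback.fst ζ.f (specMap p'))
    (by rw [Category.assoc, pullback.condition, reassoc_of% α'.hom_f])
    (by rw [reassoc_of% α'.i_hom, baseChange_i_fst'])
    (α''.iso.hom ≫ e.iso.hom ≫ pullback.fst ζ.f (specMap p''))
    (by rw [Category.assoc, Category.assoc, pullback.condition, reassoc_of% e.hom_f, reassoc_of% α''.hom_f])
    (by rw [reassoc_of% α''.i_hom, reassoc_of% e.i_hom, baseChange_i_fst'])
    (by rw [← Category.assoc m'' α''.iso.hom, show m'' ≫ α''.iso.hom = m₂ from rfl, reassoc_of% hme,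
          pullback.lift_fst])
  exact Quotient.sound (s := DefSch.setoid X x B) ⟨i⟩

lemma isIso_i_base (ζ : DefSch X x (base Λ k)) : IsIso ζ.i :=
  ζ.isPullback.isIso_fst_of_isIso

lemma iso_hom_unique {ζ : DefSch X x (base Λ k)} {T : Scheme.{u}} (φ ψ : ζ.total ⟶ T)
    (h : ζ.i ≫ φ = ζ.i ≫ ψ) : φ = ψ :=
  haveI := isIso_i_base ζ
  (cancel_epi ζ.i).mp h

/-- Automorphisms lift along the augmentation. -/
theorem lift_aut_base {A'' : Art Λ k} (g : A'' ⟶ base Λ k) (ζ : DefSch X x A'') :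
    Function.Surjective (fun e : ζ.Iso ζ => e.baseChange g) := by
  intro θ
  refine ⟨DefSch.Iso.refl ζ, ?_⟩
  have h : ∀ θ θ' : (ζ.baseChange g).Iso (ζ.baseChange g), θ = θ' := by
    rintro ⟨i, hf, hi⟩ ⟨i', hf', hi'⟩
    have : i = i' := Iso.ext (iso_hom_unique _ _ (hi.trans hi'.symm))
    subst this
    rfl
  exact h _ _

/-- `H0`. -/
theorem h0 : H0 (ArtFun.defFunctor (Λ := Λ) X x) := by
  have hx : Flat x := inferInstance
  refine ⟨⟨DefSch.cl (DefSch.self X x hx)⟩, ⟨fun a b => ?_⟩⟩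
  induction a using Quotient.inductionOn with
  | h ξ =>
  induction b using Quotient.inductionOn with
  | h ζ =>
  have key : ∀ ξ : DefSch X x (base Λ k), Nonempty ((DefSch.self X x hx).Iso ξ) := fun ξ =>
    ⟨isoOfUnder ξ.i (by rw [DefSch.i_f, comp_specRes_base]; rfl) (Category.id_comp _)⟩
  obtain ⟨e⟩ := key ξ
  obtain ⟨e'⟩ := key ζ
  exact Quotient.sound (s := DefSch.setoid X x (base Λ k)) ⟨e.symm.trans e'⟩

/-- Bijectivity of the comparison map when automorphisms lift along all the `f''` considered. -/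
theorem cmp_bijective (h : IsFibreProd p' p'' f' f'') (hf'' : Function.Surjective f'')
    (hlift : ∀ ζ'' : DefSch X x A'', Function.Surjective (fun e : ζ''.Iso ζ'' => e.baseChange f'')) :
    Function.Bijective (ArtFun.cmp (ArtFun.defFunctor X x) h) :=
  ⟨cmp_injective h hf'' hlift, cmp_surjective h hf''⟩

/-- `H_ε`. -/
theorem heps : Heps (ArtFun.defFunctor (Λ := Λ) X x) := fun _ _ _ _ h =>
  cmp_bijective h (dual Λ k).res_surjective fun ζ => lift_aut_base _ ζ

/-- `S1`. -/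
theorem s1 : S1 (ArtFun.defFunctor (Λ := Λ) X x) := fun _ _ _ _ _ _ _ _ h hf => cmp_surjective h hf

/-- Bijectivity of the comparison map for `A' ×_A A'` makes automorphisms lift. -/
theorem lift_aut_of_injective {p₁ p₂ : B ⟶ A'} (h : IsFibreProd p₁ p₂ f' f') (hf : Function.Surjective f')
    (hinj : Function.Injective (ArtFun.cmp (ArtFun.defFunctor X x) h)) (ξ' : DefSch X x A') :
    Function.Surjective (fun e : ξ'.Iso ξ' => e.baseChange f') := by
  intro θ
  let η := ξ'.baseChange f'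
  let m : η.total ⟶ ξ'.total := pullback.fst ξ'.f (specMap f')
  have hmf : m ≫ ξ'.f = η.f ≫ specMap f' := pullback.condition
  have hmi : η.i ≫ m = ξ'.i := baseChange_i_fst' ξ' f'
  obtain ⟨ξ₁, b₁, a₁, hb₁, hbi₁, ha₁, hai₁, hpo₁⟩ := exists_glue h hf η ξ' ξ' m hmf hmi m hmf hmi
  obtain ⟨ξ₂, b₂, a₂, hb₂, hbi₂, ha₂, hai₂, hpo₂⟩ := exists_glue h hf η ξ' ξ' (θ.iso.hom ≫ m)
    (by rw [Category.assoc, hmf, reassoc_of% θ.hom_f]) (by rw [reassoc_of% θ.i_hom, hmi]) m hmf hmi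
  have hcmp : DefSch.cl ξ₁ = DefSch.cl ξ₂ := by
    apply hinj
    refine ArtFun.FibProd.ext ?_ ?_
    · exact Quotient.sound (s := DefSch.setoid X x A')
        ⟨(isoBaseChange b₁ hb₁ hbi₁).symm.trans (isoBaseChange b₂ hb₂ hbi₂)⟩
    · exact Quotient.sound (s := DefSch.setoid X x A')
        ⟨(isoBaseChange a₁ ha₁ hai₁).symm.trans (isoBaseChange a₂ ha₂ hai₂)⟩
  obtain ⟨ψ⟩ : Nonempty (ξ₁.Iso ξ₂) := Quotient.exact (s := DefSch.setoid X x B) hcmp
  -- the induced automorphisms of `ξ'`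
  let β₁ := isoBaseChange b₁ hb₁ hbi₁
  let β₂ := isoBaseChange b₂ hb₂ hbi₂
  let γ₁ := isoBaseChange a₁ ha₁ hai₁
  let γ₂ := isoBaseChange a₂ ha₂ hai₂
  let e₁ : ξ'.Iso ξ' := (β₁.trans (ψ.baseChange p₁)).trans β₂.symm
  let e₂ : ξ'.Iso ξ' := (γ₁.trans (ψ.baseChange p₂)).trans γ₂.symm
  have hβ : ∀ {p : B ⟶ A'} {ζ : DefSch X x B} (c : ξ'.total ⟶ ζ.total) (hc : c ≫ ζ.f = ξ'.f ≫ specMap p)
      (hci : ξ'.i ≫ c = ζ.i),
      (isoBaseChange c hc hci).iso.hom ≫ pullback.fst ζ.f (specMap p) = c := fun c hc hci => pullback.lift_fst _ _ _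
  have hβinv : ∀ {p : B ⟶ A'} {ζ : DefSch X x B} (c : ξ'.total ⟶ ζ.total) (hc : c ≫ ζ.f = ξ'.f ≫ specMap p)
      (hci : ξ'.i ≫ c = ζ.i), (isoBaseChange c hc hci).iso.inv ≫ c = pullback.fst ζ.f (specMap p) := by
    intro p ζ c hc hci
    rw [Iso.inv_comp_eq, hβ]
  have he₁ : e₁.iso.hom ≫ b₂ = b₁ ≫ ψ.iso.hom := by
    show ((β₁.iso.hom ≫ (ψ.baseChange p₁).iso.hom) ≫ β₂.iso.inv) ≫ b₂ = _
    rw [Category.assoc, Category.assoc, hβinv, baseChange_hom_fst, ← Category.assoc, hβ]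
  have he₂ : e₂.iso.hom ≫ a₂ = a₁ ≫ ψ.iso.hom := by
    show ((γ₁.iso.hom ≫ (ψ.baseChange p₂).iso.hom) ≫ γ₂.iso.inv) ≫ a₂ = _
    rw [Category.assoc, Category.assoc, hβinv, baseChange_hom_fst, ← Category.assoc, hβ]
  have : IsClosedImmersion b₂ :=
    isClosedImmersion_of_surjective (ArtFunLib.surjective_fst h hf) b₂ hb₂ hbi₂
  have : IsClosedImmersion m := isClosedImmersion_of_surjective hf m hmf hmi
  have w₁ : m ≫ b₁ = m ≫ a₁ := hpo₁.w.symm
  have w₂ : θ.iso.hom ≫ m ≫ b₂ = m ≫ a₂ := (Category.assoc _ _ _).symm.trans hpo₂.w.symm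
  have key : (e₁.baseChange f').iso.hom = (e₂.baseChange f').iso.hom ≫ θ.iso.hom := by
    rw [← cancel_mono m, ← cancel_mono b₂]
    simp only [Category.assoc]
    rw [w₂, reassoc_of% (baseChange_hom_fst e₁ f'), reassoc_of% (baseChange_hom_fst e₂ f'), he₁, he₂,
      reassoc_of% w₁]
  refine ⟨e₂.symm.trans e₁, ?_⟩
  have h2 : ∀ θ θ' : η.Iso η, θ.iso.hom = θ'.iso.hom → θ = θ' := by
    rintro ⟨i, hf, hi⟩ ⟨i', hf', hi'⟩ hii
    have : i = i' := Iso.ext hii
    subst this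
    rfl
  refine h2 _ _ ?_
  have h3 : ((e₂.symm.trans e₁).baseChange f').iso.hom = (e₂.baseChange f').iso.inv ≫ (e₁.baseChange f').iso.hom := by
    rw [← cancel_mono m, Category.assoc, baseChange_hom_fst, baseChange_hom_fst e₁ f', ← Category.assoc (e₂.baseChange f').iso.inv,
      show (e₂.baseChange f').iso.inv ≫ pullback.fst ξ'.f (specMap f') = pullback.fst ξ'.f (specMap f') ≫ e₂.iso.inv
        from DefSch.pullMap_fst _ e₂.symm.hom_f _, Category.assoc]
    rfl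
  rw [h3, key, Iso.inv_hom_id_assoc]

end Groth.Agent.DefGlue
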