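import Groth.Agent.FlatMisc.SchemePushout

/-!
Pushouts of schemes along a closed immersion, remembering that they are pushouts of locally ringed spaces.
-/

set_option autoImplicit false
universe u

open CategoryTheory AlgebraicGeometry Limits TopologicalSpace Opposite

namespace Groth.Agent.DefGlue

open Groth.Agent.FlatMisc.SchemePushout in
/-- Pushouts exist when compatible affine opens cover, and are pushouts of locally ringed spaces. -/
theorem exists_pushout_lrs {X Y Z : Scheme.{u}} (i : Z ⟶ X) (j : Z ⟶ Y) [IsClosedImmersion i]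
    (hc : ∀ y : Y, ∃ (U : X.Opens) (V : Y.Opens), IsAffineOpen U ∧ IsAffineOpen V ∧ y ∈ V ∧
      i ⁻¹ᵁ U = j ⁻¹ᵁ V) (hsurj : Function.Surjective i) :
    ∃ (P : Scheme.{u}) (a : X ⟶ P) (b : Y ⟶ P),
      IsPushout i.toLRSHom j.toLRSHom a.toLRSHom b.toLRSHom ∧ IsPushout i j a b ∧
      Function.Surjective b ∧
      ∀ p : P, ∃ W : P.Opens, p ∈ W ∧ IsAffineOpen W ∧ IsAffineOpen (a ⁻¹ᵁ W) ∧ IsAffineOpen (b ⁻¹ᵁ W) := by
  have hpo := IsPushout.of_hasPushout (C := LocallyRingedSpace.{u}) i.toLRSHom j.toLRSHom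
  set PL := pushout i.toLRSHom j.toLRSHom
  set aL := pushout.inl i.toLRSHom j.toLRSHom
  set bL := pushout.inr i.toLRSHom j.toLRSHom
  have hbs : ∀ p : PL, ∃ y, bL.base y = p := by
    intro p
    rcases jointly_surjective i j hpo p with ⟨x, rfl⟩ | ⟨y, rfl⟩
    · obtain ⟨z, rfl⟩ := hsurj x
      exact ⟨j z, (congrArg (fun k : Z.toLocallyRingedSpace ⟶ PL => k.base z) hpo.w).symm⟩
    · exact ⟨y, rfl⟩
  have cov : ∀ p : PL, ∃ W : Opens PL, p ∈ W ∧ IsAffineOpen ((Opens.map aL.base).obj W) ∧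
      IsAffineOpen ((Opens.map bL.base).obj W) := by
    intro p
    obtain ⟨y, rfl⟩ := hbs p
    obtain ⟨U, V, hU, hV, hy, e⟩ := hc y
    obtain ⟨W, hWa, hWb⟩ := exists_open i j hpo U V e
    refine ⟨W, ?_, hWa ▸ hU, hWb ▸ hV⟩
    show y ∈ (Opens.map bL.base).obj W
    rw [hWb]
    exact hy
  let P : Scheme.{u} :=
    { toLocallyRingedSpace := PL
      local_affine := fun p => by
        obtain ⟨W, hp, ha, hb⟩ := cov p
        have h := local_affine_aux i j hpo W ha hb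
        exact ⟨⟨W, hp⟩, LocallyRingedSpace.Γ.obj (op (res W)), ⟨@asIso _ _ _ _ _ h⟩⟩ }
  let a : X ⟶ P := ⟨aL⟩
  let b : Y ⟶ P := ⟨bL⟩
  have hsq : IsPushout i j a b :=
    IsPushout.of_map Scheme.forgetToLocallyRingedSpace (Scheme.forgetToLocallyRingedSpace.map_injective hpo.w) hpo
  refine ⟨P, a, b, hpo, hsq, hbs, fun p => ?_⟩
  obtain ⟨W, hp, ha, hb⟩ := cov p
  refine ⟨W, hp, ?_, ha, hb⟩
  haveI := local_affine_aux i j hpo W ha hb
  show IsAffine (Scheme.Opens.toScheme (X := P) W)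
  exact IsAffine.of_isIso ((Scheme.forgetToLocallyRingedSpace.preimageIso
    (X := (Scheme.Opens.toScheme (X := P) W)) (Y := Spec (LocallyRingedSpace.Γ.obj (op (res W))))
    (@asIso _ _ _ _ _ (local_affine_aux i j hpo W ha hb))).hom)

end Groth.Agent.DefGlue
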