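import Groth.Agent.DefSchLib.Affine
import Groth.Agent.AffDef.Trivial

/-!
# Fibre products of flat algebras over fibre products of Artinian local rings

If `B = A' ×_A A''` and `R', R''` are flat over `A', A''`, with the same reduction `Rη` over `A`,
then `R = R' ×_{Rη} R''` is flat over `B` and has the same special fibre.
-/

set_option autoImplicit false
universe u

open IsLocalRing

namespace Groth.Agent.DefGlue

section Basis

variable {C R : Type u} [CommRing C] [CommRing R] {κ : Type u}

/-- The combination map of a family in an algebra. -/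
noncomputable def comb (φ : C →+* R) (v : κ → R) : (κ →₀ C) →+ R :=
  Finsupp.liftAddHom (fun i => (AddMonoidHom.mulRight (v i)).comp φ.toAddMonoidHom)

@[simp] lemma comb_single (φ : C →+* R) (v : κ → R) (i : κ) (c : C) :
    comb φ v (Finsupp.single i c) = φ c * v i := by
  simp [comb]

/-- Naturality of combinations. -/
lemma comb_map {D S : Type u} [CommRing D] [CommRing S] (φ : C →+* R) (ψ : D →+* S) (g : C →+* D)
    (u : R →+* S) (hu : u.comp φ = ψ.comp g) (v : κ → R) (c : κ →₀ C) :
    u (comb φ v c) = comb ψ (u ∘ v) (c.mapRange g (map_zero g)) := by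
  induction c using Finsupp.induction_linear with
  | zero => simp
  | add a b ha hb => simp [ha, hb, Finsupp.mapRange_add]
  | single i a =>
    simp only [comb_single, map_mul, Finsupp.mapRange_single, Function.comp_apply]
    rw [← RingHom.comp_apply u φ, hu]
    rfl

lemma comb_mem {I : Ideal C} (φ : C →+* R) (v : κ → R) (c : κ →₀ C) (hc : ∀ i, c i ∈ I) :
    comb φ v c ∈ I.map φ := by
  rw [comb, Finsupp.liftAddHom_apply]
  exact Ideal.sum_mem _ fun i _ => Ideal.mul_mem_right _ _ (Ideal.mem_map_of_mem φ (hc i))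

lemma comb_mul (φ : C →+* R) (v : κ → R) (t : C) (c : κ →₀ C) :
    comb φ v (c.mapRange (t * ·) (mul_zero t)) = φ t * comb φ v c := by
  induction c using Finsupp.induction_linear with
  | zero => simp
  | add p q hp hq =>
    rw [map_add, mul_add, ← hp, ← hq, ← map_add]
    congr 1
    ext i
    simp [mul_add]
  | single i b => simp only [Finsupp.mapRange_single, comb_single, map_mul]; ring

variable [IsLocalRing C] [IsArtinianRing C] {k R₀ : Type u} [CommRing k] [CommRing R₀]

/-- A family lifting a basis of the special fibre of a flat algebra is a basis. -/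
theorem comb_bijective (φ : C →+* R) (hφ : φ.Flat) (π : R →+* R₀) (e : C →+* k) (ι₀ : k →+* R₀)
    (he : Function.Surjective e) (hker : RingHom.ker e = maximalIdeal C)
    (hπφ : π.comp φ = ι₀.comp e) (hkerπ : RingHom.ker π = (maximalIdeal C).map φ)
    (v : κ → R) (hw : Function.Bijective (comb ι₀ (π ∘ v))) :
    Function.Bijective (comb φ v) := by
  have hπ : ∀ c, π (comb φ v c) = comb ι₀ (π ∘ v) (c.mapRange e (map_zero e)) := fun c =>
    comb_map φ ι₀ e π hπφ v c
  constructor
  · refine (injective_iff_map_eq_zero _).mpr fun c hc => ?_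
    have key : ∀ J ≤ maximalIdeal C, ∀ c, comb φ v c ∈ J.map φ → ∀ i, c i ∈ J := by
      refine AffDef.ideal_induction (fun J => ∀ c, comb φ v c ∈ J.map φ → ∀ i, c i ∈ J) ?_ ?_
      · intro c hc i
        rw [← hkerπ, RingHom.mem_ker, hπ] at hc
        have h3 : c.mapRange e (map_zero e) = 0 := (injective_iff_map_eq_zero _).mp hw.1 _ hc
        rw [← hker, RingHom.mem_ker]
        simpa using DFunLike.congr_fun h3 i
      · intro J t _ htJ htm _ ih c hc
        have hcK := ih c (Ideal.map_mono le_sup_left hc)
        have hd : ∀ i, ∃ y : C, c i - t * y ∈ J := fun i => by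
          obtain ⟨u, hu, s, hs, e'⟩ := Submodule.mem_sup.mp (hcK i)
          obtain ⟨y, rfl⟩ := Ideal.mem_span_singleton'.mp hs
          exact ⟨y, by rw [← e', mul_comm t]; simpa using hu⟩
        choose y hy using hd
        classical
        let y' : κ →₀ C := Finsupp.onFinset c.support (fun i => if c i = 0 then 0 else y i)
          (fun i hi => by rw [Finsupp.mem_support_iff]; intro h; exact hi (if_pos h))
        have hy' : ∀ i, c i - t * y' i ∈ J := fun i => by
          show c i - t * (if c i = 0 then 0 else y i) ∈ J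
          split_ifs with h
          · simp [h]
          · exact hy i
        have h1 : φ t * comb φ v y' ∈ J.map φ := by
          have := sub_mem hc (comb_mem φ v (c - y'.mapRange (t * ·) (mul_zero t)) (fun i => by simpa using hy' i))
          rwa [map_sub, comb_mul, sub_sub_cancel] at this
        have h2 := DefSchLib.cancel φ hφ htJ h1
        rw [← hkerπ, RingHom.mem_ker, hπ] at h2
        have h3 : y'.mapRange e (map_zero e) = 0 := (injective_iff_map_eq_zero _).mp hw.1 _ h2
        intro i
        have h4 : y' i ∈ maximalIdeal C := by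
          rw [← hker, RingHom.mem_ker]
          simpa using DFunLike.congr_fun h3 i
        have h5 : t * y' i ∈ J := mul_comm t (y' i) ▸ htm _ h4
        simpa using J.add_mem (hy' i) h5
    exact Finsupp.ext fun i => by simpa using key ⊥ bot_le c (by rw [hc]; exact zero_mem _) i
  · have key : ∀ J ≤ maximalIdeal C, ∀ y, ∃ c, y - comb φ v c ∈ J.map φ := by
      refine AffDef.ideal_induction (fun J => ∀ y, ∃ c, y - comb φ v c ∈ J.map φ) ?_ ?_
      · intro y
        obtain ⟨d, hd⟩ := hw.2 (π y)
        obtain ⟨c, hc⟩ := Finsupp.mapRange_surjective e (map_zero e) he d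
        exact ⟨c, by rw [← hkerπ, RingHom.mem_ker, map_sub, hπ, hc, hd, sub_self]⟩
      · intro J t _ _ htm _ ih y
        obtain ⟨c, hc⟩ := ih y
        obtain ⟨z, hz⟩ := DefSchLib.split_mem φ rfl hc
        obtain ⟨d, hd⟩ := hw.2 (π z)
        obtain ⟨d', hd'⟩ := Finsupp.mapRange_surjective e (map_zero e) he d
        refine ⟨c + d'.mapRange (t * ·) (mul_zero t), ?_⟩
        have h3 : z - comb φ v d' ∈ (maximalIdeal C).map φ := by
          rw [← hkerπ, RingHom.mem_ker, map_sub, hπ, hd', hd, sub_self]
        have h4 : φ t * (z - comb φ v d') ∈ J.map φ := by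
          refine Ideal.map_mono (Ideal.span_singleton_mul_le_iff.2 fun a ha => by rw [mul_comm]; exact htm a ha) ?_
          rw [Ideal.map_mul, Ideal.map_span, Set.image_singleton]
          exact Ideal.mul_mem_mul (Ideal.mem_span_singleton_self _) h3
        rw [map_add, comb_mul, show y - (comb φ v c + φ t * comb φ v d') =
          (y - comb φ v c - φ t * z) + φ t * (z - comb φ v d') by ring]
        exact add_mem hz h4
    intro y
    obtain ⟨c, hc⟩ := key ⊥ bot_le y
    exact ⟨c, (sub_eq_zero.mp (by simpa using hc)).symm⟩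

end Basis

section Glue

variable {B A A' A'' k R R' R'' Rη R₀ : Type u}
  [CommRing B] [CommRing A] [CommRing A'] [CommRing A''] [CommRing k]
  [IsLocalRing B] [IsLocalRing A] [IsArtinianRing A] [IsLocalRing A'] [IsArtinianRing A']
  [IsLocalRing A''] [IsArtinianRing A'']
  [CommRing R] [CommRing R'] [CommRing R''] [CommRing Rη] [CommRing R₀]

/-- The fibre product of flat algebras over a fibre product is flat, with the same special fibre. -/
theorem glue_ring
    (g' : B →+* A') (g'' : B →+* A'') (f' : A' →+* A) (f'' : A'' →+* A)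
    (hw : f'.comp g' = f''.comp g'')
    (hBinj : ∀ b₁ b₂, g' b₁ = g' b₂ → g'' b₁ = g'' b₂ → b₁ = b₂)
    (hBsurj : ∀ a' a'', f' a' = f'' a'' → ∃ b, g' b = a' ∧ g'' b = a'')
    (res : A →+* k) (res' : A' →+* k) (res'' : A'' →+* k) (resB : B →+* k)
    (hr' : res.comp f' = res') (hr'' : res.comp f'' = res'') (hrB : res'.comp g' = resB)
    (hs : Function.Surjective res) (hs' : Function.Surjective res') (hs'' : Function.Surjective res'')
    (hk : RingHom.ker res = maximalIdeal A) (hk' : RingHom.ker res' = maximalIdeal A')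
    (hk'' : RingHom.ker res'' = maximalIdeal A'') (hkB : RingHom.ker resB = maximalIdeal B)
    (φ : B →+* R) (φ' : A' →+* R') (φ'' : A'' →+* R'') (φη : A →+* Rη)
    (hF' : φ'.Flat) (hF'' : φ''.Flat) (hFη : φη.Flat)
    (q' : R →+* R') (q'' : R →+* R'') (u' : R' →+* Rη) (u'' : R'' →+* Rη)
    (hq' : q'.comp φ = φ'.comp g') (hq'' : q''.comp φ = φ''.comp g'')
    (hu' : u'.comp φ' = φη.comp f') (hu'' : u''.comp φ'' = φη.comp f'')
    (hu''s : Function.Surjective u'')
    (hRw : u'.comp q' = u''.comp q'')
    (hRinj : ∀ r₁ r₂, q' r₁ = q' r₂ → q'' r₁ = q'' r₂ → r₁ = r₂)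
    (hRsurj : ∀ r' r'', u' r' = u'' r'' → ∃ r, q' r = r' ∧ q'' r = r'')
    (π' : R' →+* R₀) (π'' : R'' →+* R₀) (πη : Rη →+* R₀)
    (hπ' : πη.comp u' = π') (hπ'' : πη.comp u'' = π'')
    (hπs : Function.Surjective π')
    (ι₀ : k →+* R₀)
    (hι' : π'.comp φ' = ι₀.comp res') (hι'' : π''.comp φ'' = ι₀.comp res'') (hιη : πη.comp φη = ι₀.comp res)
    (hsB : Function.Surjective resB)
    (hK' : RingHom.ker π' = (maximalIdeal A').map φ') (hK'' : RingHom.ker π'' = (maximalIdeal A'').map φ'')
    (hKη : RingHom.ker πη = (maximalIdeal A).map φη) :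
    φ.Flat ∧ Function.Surjective (π'.comp q') ∧ (π'.comp q').comp φ = ι₀.comp resB ∧
      RingHom.ker (π'.comp q') = (maximalIdeal B).map φ := by
  classical
  -- a family whose image in `R₀` is a basis
  let _ : Algebra A' R' := φ'.toAlgebra
  have : Module.Flat A' R' := hF'
  have : Module.Free A' R' := DefMod95.EndDeform.free_of_flat_of_nilpotent (DefSchLib.isNilpotent_max A')
  let E := Module.Free.chooseBasis A' R'
  set κ := Module.Free.ChooseBasisIndex A' R'
  have hE : ∀ c : κ →₀ A', comb φ' E c = E.repr.symm c := fun c => by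
    rw [E.repr_symm_apply, Finsupp.linearCombination_apply, comb, Finsupp.liftAddHom_apply]
    rfl
  let w : κ → R₀ := π' ∘ E
  have hπE : ∀ c, π' (comb φ' E c) = comb ι₀ w (c.mapRange res' (map_zero res')) :=
    comb_map φ' ι₀ res' π' hι' E
  have hwb : Function.Bijective (comb ι₀ w) := by
    constructor
    · refine (injective_iff_map_eq_zero _).mpr fun d hd => ?_
      obtain ⟨c, rfl⟩ := Finsupp.mapRange_surjective res' (map_zero res') hs' d
      rw [← hπE, ← RingHom.mem_ker, hK'] at hd
      obtain ⟨s, hs⟩ : ∃ s, s = comb φ' E c := ⟨_, rfl⟩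
      have hmem : ∀ y ∈ (maximalIdeal A').map φ', ∀ i, E.repr y i ∈ maximalIdeal A' := by
        intro y hy
        have hy' : y ∈ maximalIdeal A' • (⊤ : Submodule A' R') := by
          rw [Ideal.smul_top_eq_map]; exact hy
        clear hy
        intro i
        refine Submodule.smul_induction_on hy' (fun a ha z _ => ?_) fun z z' hz hz' => ?_
        · rw [map_smul, Finsupp.smul_apply, smul_eq_mul]
          exact Ideal.mul_mem_right _ _ ha
        · rw [map_add, Finsupp.add_apply]
          exact add_mem hz hz'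
      have hc := hmem _ hd
      rw [hE, LinearEquiv.apply_symm_apply] at hc
      ext i
      rw [Finsupp.mapRange_apply, Finsupp.zero_apply, ← RingHom.mem_ker, hk']
      exact hc i
    · intro y
      obtain ⟨r, rfl⟩ := hπs y
      exact ⟨(E.repr r).mapRange res' (map_zero res'), by rw [← hπE, hE, LinearEquiv.symm_apply_apply]⟩
  choose vR hvR using fun i => hRsurj (E i) (hu''s (u' (E i))).choose (hu''s (u' (E i))).choose_spec.symm
  let v'' : κ → R'' := q'' ∘ vR
  have hv' : q' ∘ vR = E := funext fun i => (hvR i).1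
  have hu''v : ∀ i, u'' (v'' i) = u' (E i) := fun i => by
    show u'' (q'' (vR i)) = _
    rw [← RingHom.comp_apply u'' q'', ← hRw, RingHom.comp_apply, (hvR i).1]
  have hw'' : π'' ∘ v'' = w := funext fun i => by
    show π'' (v'' i) = π' (E i)
    rw [← hπ'', RingHom.comp_apply, hu''v, ← RingHom.comp_apply, hπ']
  have hwη : πη ∘ (u' ∘ E) = w := funext fun i => by
    show πη (u' (E i)) = π' (E i)
    rw [← RingHom.comp_apply, hπ']
  have hb' := comb_bijective φ' hF' π' res' ι₀ hs' hk' hι' hK' E hwb
  have hb'' := comb_bijective φ'' hF'' π'' res'' ι₀ hs'' hk'' hι'' hK'' v'' (by rw [hw'']; exact hwb)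
  have hbη := comb_bijective φη hFη πη res ι₀ hs hk hιη hKη (u' ∘ E) (by rw [hwη]; exact hwb)
  have hc' : ∀ c, q' (comb φ vR c) = comb φ' E (c.mapRange g' (map_zero g')) := fun c => by
    rw [comb_map φ φ' g' q' hq', hv']
  have hc'' : ∀ c, q'' (comb φ vR c) = comb φ'' v'' (c.mapRange g'' (map_zero g'')) :=
    comb_map φ φ'' g'' q'' hq'' vR
  have hbij : Function.Bijective (comb φ vR) := by
    constructor
    · refine (injective_iff_map_eq_zero _).mpr fun c hc => ?_
      have h1 := hb'.1 (((hc' c).symm.trans (by rw [hc, map_zero])).trans (map_zero (comb φ' E)).symm)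
      have h2 := hb''.1 (((hc'' c).symm.trans (by rw [hc, map_zero])).trans (map_zero (comb φ'' v'')).symm)
      ext i
      exact hBinj _ _ (by simpa using DFunLike.congr_fun h1 i) (by simpa using DFunLike.congr_fun h2 i)
    · intro r
      obtain ⟨c', hc'r⟩ := hb'.2 (q' r)
      obtain ⟨c'', hc''r⟩ := hb''.2 (q'' r)
      have hcη : c'.mapRange f' (map_zero f') = c''.mapRange f'' (map_zero f'') := by
        refine hbη.1 ?_
        rw [← comb_map φ' φη f' u' hu' E c', hc'r,
          show (u' ∘ E : κ → Rη) = u'' ∘ v'' from funext fun i => (hu''v i).symm,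
          ← comb_map φ'' φη f'' u'' hu'' v'' c'', hc''r, ← RingHom.comp_apply, hRw, RingHom.comp_apply]
      choose b hb' hb'' using fun i => hBsurj (c' i) (c'' i) (by simpa using DFunLike.congr_fun hcη i)
      let c : κ →₀ B := Finsupp.onFinset (c'.support ∪ c''.support) b (fun i hi => by
        by_contra h
        simp only [Finset.mem_union, Finsupp.mem_support_iff, not_or, not_not] at h
        exact hi (hBinj _ _ (by rw [hb' i, h.1, map_zero]) (by rw [hb'' i, h.2, map_zero])))
      refine ⟨c, hRinj _ _ ?_ ?_⟩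
      · rw [hc', show c.mapRange g' (map_zero g') = c' from Finsupp.ext fun i => hb' i, hc'r]
      · rw [hc'', show c.mapRange g'' (map_zero g'') = c'' from Finsupp.ext fun i => hb'' i, hc''r]
  have hπφ : (π'.comp q').comp φ = ι₀.comp resB := by
    rw [RingHom.comp_assoc, hq', ← RingHom.comp_assoc, hι', RingHom.comp_assoc, hrB]
  have hπvR : ∀ c, (π'.comp q') (comb φ vR c) = comb ι₀ w (c.mapRange resB (map_zero resB)) := fun c => by
    rw [RingHom.comp_apply, hc', hπE]
    congr 1
    ext i
    simp [← hrB]
  refine ⟨?_, ?_, hπφ, le_antisymm ?_ ?_⟩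
  · let _ : Algebra B R := φ.toAlgebra
    let Φ : (κ →₀ B) ≃+ R := AddEquiv.ofBijective (comb φ vR) hbij
    exact Module.Flat.of_linearEquiv (LinearEquiv.symm
      { Φ with
        map_smul' := fun b c => by
          show comb φ vR (b • c) = φ b * comb φ vR c
          rw [← comb_mul]
          congr 1 })
  · intro y
    obtain ⟨d, rfl⟩ := hwb.2 y
    obtain ⟨c, rfl⟩ := Finsupp.mapRange_surjective resB (map_zero resB) hsB d
    exact ⟨comb φ vR c, hπvR c⟩
  · intro r hr
    obtain ⟨c, rfl⟩ := hbij.2 r
    rw [RingHom.mem_ker, hπvR] at hr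
    have h0 := (injective_iff_map_eq_zero _).mp hwb.1 _ hr
    refine comb_mem φ vR c fun i => ?_
    rw [← hkB, RingHom.mem_ker]
    simpa using DFunLike.congr_fun h0 i
  · rw [Ideal.map_le_iff_le_comap]
    intro b hb
    rw [← hkB, RingHom.mem_ker] at hb
    rw [Ideal.mem_comap, RingHom.mem_ker, ← RingHom.comp_apply, hπφ, RingHom.comp_apply, hb, map_zero]

end Glue

end Groth.Agent.DefGlue
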