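import Groth.Agent.DefGlue.Ring
import Groth.Agent.DefGlue.Pushout
import Groth.Prelude.Def_ArtFun4

/-!
# Gluing deformations over fibre products of Artin rings

Morphisms of deformations over a change of base are automatically cartesian, and deformations
over `A'` and `A''` with the same reduction over `A` glue to one over `A' ×_A A''` (`A'' → A` surjective).
-/

set_option autoImplicit false
set_option backward.isDefEq.respectTransparency false
universe u

open CategoryTheory CategoryTheory.Limits AlgebraicGeometry TopologicalSpace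
open ArtFun ArtFun.Art

namespace Groth.Agent.DefGlue

variable {Λ k : Type u} [CommRing Λ] [Field k] [Algebra Λ k] {X : Scheme.{u}} {x : X ⟶ specPt k}

/-- The augmentation as a ring map. -/
abbrev resHom (A : Art Λ k) : A →+* k := A.res.toRingHom

lemma ker_resHom (A : Art Λ k) : RingHom.ker (resHom A) = IsLocalRing.maximalIdeal A :=
  Ideal.ext fun a => (A.mem_maximalIdeal_iff a).symm

lemma resHom_comp {A B : Art Λ k} (g : A ⟶ B) : (resHom B).comp g.toAlgHom.toRingHom = resHom A :=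
  RingHom.ext fun a => res_app g a

instance isClosedImmersion_i {A : Art Λ k} (ξ : DefSch X x A) : IsClosedImmersion ξ.i :=
  MorphismProperty.of_isPullback (P := @IsClosedImmersion) ξ.isPullback.flip (IsClosedImmersion.spec_of_surjective _ A.res_surjective)

lemma surjective_i {A : Art Λ k} (ξ : DefSch X x A) : Function.Surjective ξ.i :=
  (DefSchLib.surjective_fibre A.res_surjective (ker_resHom A) ξ.isPullback).surj

lemma isAffineOpen_of_preimage {A : Art Λ k} (ξ : DefSch X x A) (U : ξ.total.Opens)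
    (h : IsAffineOpen (ξ.i ⁻¹ᵁ U)) : IsAffineOpen U := by
  have : IsAffine (ξ.i ⁻¹ᵁ U).toScheme := h
  have : IsClosedImmersion (ξ.i ∣_ U) := IsZariskiLocalAtTarget.restrict (P := @IsClosedImmersion) (isClosedImmersion_i ξ) U
  refine S0440.result (ξ.i ∣_ U) fun y => ?_
  obtain ⟨z, hz⟩ := surjective_i ξ y.1
  refine ⟨⟨z, by show ξ.i z ∈ U; rw [hz]; exact y.2⟩, Subtype.ext ?_⟩
  exact (morphismRestrict_base_coe ξ.i U _).trans hz

lemma isHomeomorph_i {A : Art Λ k} (ξ : DefSch X x A) : IsHomeomorph ξ.i :=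
  isHomeomorph_iff_isEmbedding_surjective.mpr ⟨ξ.i.isClosedEmbedding.isEmbedding, surjective_i ξ⟩

lemma isHomeomorph_of_under {A C : Art Λ k} {ξ : DefSch X x C} {ζ : DefSch X x A} (m : ζ.total ⟶ ξ.total)
    (hi : ζ.i ≫ m = ξ.i) : IsHomeomorph m := by
  have h : (m : ζ.total → ξ.total) ∘ ζ.i = ξ.i := by rw [← hi]; rfl
  let e := (isHomeomorph_i ζ).homeomorph
  have h2 : (m : ζ.total → ξ.total) = (ξ.i : X → ξ.total) ∘ e.symm := by
    funext z
    have := congrFun h (e.symm z)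
    rw [Function.comp_apply] at this
    rw [Function.comp_apply, ← this]
    congr 1
    exact (e.apply_symm_apply z).symm
  rw [h2]
  exact (isHomeomorph_i ξ).comp e.symm.isHomeomorph

/-! ## Sections -/

lemma appLE_congr_hom {S S' : Scheme.{u}} {g g' : S ⟶ S'} (hg : g = g') (W : S'.Opens) (V : S.Opens)
    (l : V ≤ g ⁻¹ᵁ W) (l' : V ≤ g' ⁻¹ᵁ W) : g.appLE W V l = g'.appLE W V l' := by
  subst hg; rfl

/-- The structure maps on sections commute with morphisms. -/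
lemma str_comp {C D : Type u} [CommRing C] [CommRing D] {Z Y : Scheme.{u}} (m : Z ⟶ Y)
    (g : Y ⟶ Spec (CommRingCat.of C)) (h : Z ⟶ Spec (CommRingCat.of D)) (γ : C →+* D)
    (w : m ≫ g = h ≫ Spec.map (CommRingCat.ofHom γ)) (U : Y.Opens) (V : Z.Opens) (e : V ≤ m ⁻¹ᵁ U) :
    (m.appLE U V e).hom.comp (DefSchLib.str g U) = (DefSchLib.str h V).comp γ := by
  have h1 : g.appLE ⊤ U le_top ≫ m.appLE U V e =
      (Spec.map (CommRingCat.ofHom γ)).appLE ⊤ ⊤ le_top ≫ h.appLE ⊤ V le_top := by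
    exact (Scheme.Hom.appLE_comp_appLE m g ⊤ U V le_top e).trans ((appLE_congr_hom w _ _ _ le_top).trans
      (Scheme.Hom.appLE_comp_appLE h (Spec.map (CommRingCat.ofHom γ)) ⊤ ⊤ V le_top le_top).symm)
  have h2 : (Scheme.ΓSpecIso (CommRingCat.of C)).inv ≫ (Spec.map (CommRingCat.ofHom γ)).appLE ⊤ ⊤ le_top =
      CommRingCat.ofHom γ ≫ (Scheme.ΓSpecIso (CommRingCat.of D)).inv := by
    rw [Scheme.ΓSpecIso_inv_naturality]
    congr 1
  refine congrArg CommRingCat.Hom.hom (show ((Scheme.ΓSpecIso (CommRingCat.of C)).inv ≫ g.appLE ⊤ U le_top) ≫ m.appLE U V e =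
    CommRingCat.ofHom γ ≫ ((Scheme.ΓSpecIso (CommRingCat.of D)).inv ≫ h.appLE ⊤ V le_top) from ?_)
  rw [Category.assoc, h1, ← Category.assoc, h2, Category.assoc]

/-- The closed fibre on an affine open. -/
lemma fibre_appLE {A : Art Λ k} (ξ : DefSch X x A) (U : ξ.total.Opens) (hU : IsAffineOpen U)
    (V : X.Opens) (e : V = ξ.i ⁻¹ᵁ U) :
    Function.Surjective (ξ.i.appLE U V e.le).hom ∧
      (ξ.i.appLE U V e.le).hom.comp (DefSchLib.str ξ.f U) = (DefSchLib.str x V).comp (resHom A) ∧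
      RingHom.ker (ξ.i.appLE U V e.le).hom =
        (IsLocalRing.maximalIdeal A).map (DefSchLib.str ξ.f U) := by
  subst e
  obtain ⟨h1, -, h3⟩ := DefSchLib.ker_app A.res_surjective ξ.isPullback hU
  refine ⟨?_, str_comp ξ.i ξ.f x (resHom A) ξ.i_f U _ le_rfl, ?_⟩
  · rw [Scheme.Hom.appLE_eq_app]; exact h1
  · rw [Scheme.Hom.appLE_eq_app, h3, ker_resHom]

/-! ## Morphisms of deformations -/

/-- A morphism of deformations over the same base is an isomorphism. -/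
theorem isIso_of_under {A : Art Λ k} {ξ ζ : DefSch X x A} (φ : ξ.total ⟶ ζ.total) (hf : φ ≫ ζ.f = ξ.f)
    (hi : ξ.i ≫ φ = ζ.i) : IsIso φ := by
  show MorphismProperty.isomorphisms Scheme.{u} φ
  refine (HasAffineProperty.iff_of_iSup_eq_top (P := MorphismProperty.isomorphisms Scheme.{u})
    (fun U : ζ.total.affineOpens => U) (iSup_affineOpens_eq_top _)).mpr fun ⟨U, hU⟩ => ?_
  have e : ξ.i ⁻¹ᵁ φ ⁻¹ᵁ U = ζ.i ⁻¹ᵁ U := congrArg (fun g : X ⟶ ζ.total => g ⁻¹ᵁ U) hi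
  have hV : IsAffineOpen (φ ⁻¹ᵁ U) := isAffineOpen_of_preimage ξ _ (e ▸ hU.preimage ζ.i)
  refine ⟨hV, ?_⟩
  have hbij : Function.Bijective (φ.app U).hom := by
    have h := fibre_appLE ξ _ hV (ζ.i ⁻¹ᵁ U) e.symm
    have h' := fibre_appLE ζ _ hU (ζ.i ⁻¹ᵁ U) rfl
    refine AffDef.bijective_hom (DefSchLib.str ζ.f U) (DefSchLib.str ξ.f (φ ⁻¹ᵁ U))
      (DefSchLib.flat_str hV) (ζ.i.appLE U _ le_rfl).hom (ξ.i.appLE (φ ⁻¹ᵁ U) _ e.symm.le).hom h'.1 h'.2.2 h.2.2
      (φ.app U).hom ?_ ?_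
    · have h1 := str_comp φ ζ.f ξ.f (RingHom.id A) (by
        rw [hf, CommRingCat.ofHom_id, Spec.map_id]; exact (Category.comp_id _).symm) U (φ ⁻¹ᵁ U) le_rfl
      rw [Scheme.Hom.appLE_eq_app, RingHom.comp_id] at h1
      exact h1
    · have h1 : φ.app U ≫ ξ.i.appLE (φ ⁻¹ᵁ U) (ζ.i ⁻¹ᵁ U) e.symm.le = ζ.i.appLE U _ le_rfl := by
        rw [← Scheme.Hom.appLE_eq_app, Scheme.Hom.appLE_comp_appLE]
        exact appLE_congr_hom hi _ _ _ _
      exact congrArg CommRingCat.Hom.hom h1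
  rw [morphismRestrict_appTop]
  have : IsIso (φ.app (U.ι ''ᵁ ⊤)) := by
    have hI : IsIso (φ.app U) := (ConcreteCategory.isIso_iff_bijective (φ.app U)).mpr hbij
    have hO : ∀ O : ζ.total.Opens, O = U → IsIso (φ.app O) := fun O e => e ▸ hI
    exact hO _ (Scheme.Opens.ι_image_top _)
  infer_instance

/-- The isomorphism of deformations given by a morphism. -/
noncomputable def isoOfUnder {A : Art Λ k} {ξ ζ : DefSch X x A} (φ : ξ.total ⟶ ζ.total) (hf : φ ≫ ζ.f = ξ.f)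
    (hi : ξ.i ≫ φ = ζ.i) : ξ.Iso ζ :=
  haveI := isIso_of_under φ hf hi
  ⟨asIso φ, hf, hi⟩

/-- A morphism `ζ → ξ` over `g : A ⟶ B` exhibits `ζ` as the base change of `ξ`. -/
noncomputable def isoBaseChange {A B : Art Λ k} {g : A ⟶ B} {ξ : DefSch X x A} {ζ : DefSch X x B}
    (m : ζ.total ⟶ ξ.total) (hf : m ≫ ξ.f = ζ.f ≫ specMap g) (hi : ζ.i ≫ m = ξ.i) :
    ζ.Iso (ξ.baseChange g) :=
  isoOfUnder (pullback.lift m ζ.f hf) (pullback.lift_snd _ _ _) (by
    apply pullback.hom_ext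
    · rw [Category.assoc, pullback.lift_fst, hi]; exact (DefSch.baseChange_i_fst ξ g).symm
    · rw [Category.assoc, pullback.lift_snd, DefSch.i_f]; exact (DefSch.baseChange_i_f ξ g).symm)

/-- The projection of a base change. -/
lemma baseChange_fst_f {A B : Art Λ k} (g : A ⟶ B) (ξ : DefSch X x A) :
    pullback.fst ξ.f (specMap g) ≫ ξ.f = (ξ.baseChange g).f ≫ specMap g := pullback.condition

/-! ## Gluing -/

lemma isClosedImmersion_of_surjective {A B : Art Λ k} {g : A ⟶ B} (hg : Function.Surjective g)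
    {ξ : DefSch X x A} {ζ : DefSch X x B} (m : ζ.total ⟶ ξ.total) (hf : m ≫ ξ.f = ζ.f ≫ specMap g)
    (hi : ζ.i ≫ m = ξ.i) : IsClosedImmersion m := by
  let e := isoBaseChange m hf hi
  have : IsClosedImmersion (specMap g) := IsClosedImmersion.spec_of_surjective _ hg
  have h : m = e.iso.hom ≫ pullback.fst ξ.f (specMap g) := (pullback.lift_fst _ _ _).symm
  rw [h]
  infer_instance

theorem exists_glue {B A A' A'' : Art Λ k} {p' : B ⟶ A'} {p'' : B ⟶ A''} {f' : A' ⟶ A} {f'' : A'' ⟶ A}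
    (h : IsFibreProd p' p'' f' f'') (hf'' : Function.Surjective f'')
    (η : DefSch X x A) (ξ' : DefSch X x A') (ξ'' : DefSch X x A'')
    (m' : η.total ⟶ ξ'.total) (hm'f : m' ≫ ξ'.f = η.f ≫ specMap f') (hm'i : η.i ≫ m' = ξ'.i)
    (m'' : η.total ⟶ ξ''.total) (hm''f : m'' ≫ ξ''.f = η.f ≫ specMap f'') (hm''i : η.i ≫ m'' = ξ''.i) :
    ∃ (ξ : DefSch X x B) (b : ξ'.total ⟶ ξ.total) (a : ξ''.total ⟶ ξ.total),
      b ≫ ξ.f = ξ'.f ≫ specMap p' ∧ ξ'.i ≫ b = ξ.i ∧ a ≫ ξ.f = ξ''.f ≫ specMap p'' ∧ ξ''.i ≫ a = ξ.i ∧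
      IsPushout m'' m' a b := by
  haveI := isClosedImmersion_of_surjective hf'' m'' hm''f hm''i
  have hh'' := isHomeomorph_of_under m'' hm''i
  obtain ⟨P, a, b, hpo, hsq, hbs, cov⟩ := exists_pushout_lrs m'' m' (fun y => by
    obtain ⟨V, hV, hy, -⟩ := exists_isAffineOpen_mem_and_subset (U := (⊤ : ξ'.total.Opens)) (x := y) trivial
    let U : ξ''.total.Opens := ⟨m'' '' (m' ⁻¹ᵁ V : Set η.total), hh''.isOpenMap _ (m' ⁻¹ᵁ V).isOpen⟩
    have e : m'' ⁻¹ᵁ U = m' ⁻¹ᵁ V := Opens.ext (Set.preimage_image_eq _ hh''.injective)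
    refine ⟨U, V, ?_, hV, hy, e⟩
    refine isAffineOpen_of_preimage ξ'' U ?_
    have e1 : ξ''.i ⁻¹ᵁ U = η.i ⁻¹ᵁ (m'' ⁻¹ᵁ U) := congrArg (fun g : X ⟶ ξ''.total => g ⁻¹ᵁ U) hm''i.symm
    have e2 : η.i ⁻¹ᵁ (m' ⁻¹ᵁ V) = ξ'.i ⁻¹ᵁ V := congrArg (fun g : X ⟶ ξ'.total => g ⁻¹ᵁ V) hm'i
    rw [e1, e, e2]
    exact hV.preimage ξ'.i) hh''.surjective
  have hwspec : specMap f'' ≫ specMap p'' = specMap f' ≫ specMap p' := by
    rw [← specMap_comp, ← specMap_comp, h.w]
  let F : P ⟶ spec B := hsq.desc (ξ''.f ≫ specMap p'') (ξ'.f ≫ specMap p')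
    (by rw [reassoc_of% hm''f, reassoc_of% hm'f, hwspec])
  have hbF : b ≫ F = ξ'.f ≫ specMap p' := hsq.inr_desc _ _ _
  have haF : a ≫ F = ξ''.f ≫ specMap p'' := hsq.inl_desc _ _ _
  let i : X ⟶ P := ξ'.i ≫ b
  have hia : ξ''.i ≫ a = i := by
    show ξ''.i ≫ a = ξ'.i ≫ b
    rw [← hm''i, Category.assoc, hsq.w, reassoc_of% hm'i]
  -- the local statement
  have hloc : ∀ W : P.Opens, IsAffineOpen W → IsAffineOpen (a ⁻¹ᵁ W) → IsAffineOpen (b ⁻¹ᵁ W) →
      (DefSchLib.str F W).Flat ∧ Function.Surjective (i.app W).hom ∧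
        (i.app W).hom.comp (DefSchLib.str F W) = (DefSchLib.str x (i ⁻¹ᵁ W)).comp (resHom B) ∧
        RingHom.ker (i.app W).hom = (IsLocalRing.maximalIdeal B).map (DefSchLib.str F W) := by
    intro W hW ha hb
    let Vη : η.total.Opens := m'' ⁻¹ᵁ (a ⁻¹ᵁ W)
    have eη : Vη = m' ⁻¹ᵁ (b ⁻¹ᵁ W) := FlatMisc.SchemePushout.preimage_eq m'' m' hpo W
    let VX : X.Opens := i ⁻¹ᵁ W
    have eX' : VX = ξ'.i ⁻¹ᵁ (b ⁻¹ᵁ W) := rfl
    have eX'' : VX = ξ''.i ⁻¹ᵁ (a ⁻¹ᵁ W) := congrArg (fun g : X ⟶ P => g ⁻¹ᵁ W) hia.symm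
    have eXη : VX = η.i ⁻¹ᵁ Vη :=
      eX''.trans (congrArg (fun g : X ⟶ ξ''.total => g ⁻¹ᵁ (a ⁻¹ᵁ W)) hm''i.symm)
    have hη : IsAffineOpen Vη := ha.preimage m''
    have k' := fibre_appLE ξ' _ hb VX eX'
    have k'' := fibre_appLE ξ'' _ ha VX eX''
    have kη := fibre_appLE η _ hη VX eXη
    have hu''s : Function.Surjective (m''.appLE (a ⁻¹ᵁ W) Vη le_rfl).hom := by
      rw [Scheme.Hom.appLE_eq_app]; exact m''.app_surjective _ ha
    have hsB : Function.Surjective (resHom B) := B.res_surjective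
    have hw : (m'.appLE (b ⁻¹ᵁ W) Vη eη.le).hom.comp (b.app W).hom =
        (m''.appLE (a ⁻¹ᵁ W) Vη le_rfl).hom.comp (a.app W).hom := by
      have h1 : b.app W ≫ m'.appLE (b ⁻¹ᵁ W) Vη eη.le = a.app W ≫ m''.appLE (a ⁻¹ᵁ W) Vη le_rfl := by
        rw [← Scheme.Hom.appLE_eq_app b, ← Scheme.Hom.appLE_eq_app a, Scheme.Hom.appLE_comp_appLE,
          Scheme.Hom.appLE_comp_appLE]
        exact appLE_congr_hom hsq.w.symm _ _ _ _
      exact congrArg CommRingCat.Hom.hom h1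
    have res := glue_ring (B := B) (A := A) (A' := A') (A'' := A'') (k := k)
      p'.toAlgHom.toRingHom p''.toAlgHom.toRingHom f'.toAlgHom.toRingHom f''.toAlgHom.toRingHom
      (RingHom.ext fun z => h.w_apply z) (fun z z' => h.inj z z') (fun z z' => h.surj z z')
      (resHom A) (resHom A') (resHom A'') (resHom B) (resHom_comp f') (resHom_comp f'') (resHom_comp p')
      A.res_surjective A'.res_surjective A''.res_surjective (ker_resHom A) (ker_resHom A') (ker_resHom A'')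
      (ker_resHom B) (DefSchLib.str F W) (DefSchLib.str ξ'.f (b ⁻¹ᵁ W)) (DefSchLib.str ξ''.f (a ⁻¹ᵁ W))
      (DefSchLib.str η.f Vη) (DefSchLib.flat_str hb) (DefSchLib.flat_str ha) (DefSchLib.flat_str hη)
      (b.app W).hom (a.app W).hom (m'.appLE (b ⁻¹ᵁ W) Vη eη.le).hom (m''.appLE (a ⁻¹ᵁ W) Vη le_rfl).hom
      (by rw [← Scheme.Hom.appLE_eq_app]; exact str_comp b F ξ'.f p'.toAlgHom.toRingHom hbF W _ le_rfl)
      (by rw [← Scheme.Hom.appLE_eq_app]; exact str_comp a F ξ''.f p''.toAlgHom.toRingHom haF W _ le_rfl)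
      (str_comp m' ξ'.f η.f f'.toAlgHom.toRingHom hm'f _ _ _)
      (str_comp m'' ξ''.f η.f f''.toAlgHom.toRingHom hm''f _ _ _)
      hu''s hw
      (fun r r' e1 e2 => FlatMisc.SchemePushout.sections_injective m'' m' hpo W r r' e2 e1)
      (fun r' r'' e => by
        obtain ⟨r, h1, h2⟩ := FlatMisc.SchemePushout.sections_exists m'' m' hpo W r'' r' e.symm
        exact ⟨r, h2, h1⟩)
      (ξ'.i.appLE (b ⁻¹ᵁ W) VX eX'.le).hom (ξ''.i.appLE (a ⁻¹ᵁ W) VX eX''.le).hom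
      (η.i.appLE Vη VX eXη.le).hom
      (by
        rw [← CommRingCat.hom_comp, Scheme.Hom.appLE_comp_appLE]
        exact congrArg CommRingCat.Hom.hom (appLE_congr_hom hm'i _ _ _ _))
      (by
        rw [← CommRingCat.hom_comp, Scheme.Hom.appLE_comp_appLE]
        exact congrArg CommRingCat.Hom.hom (appLE_congr_hom hm''i _ _ _ _))
      k'.1 (DefSchLib.str x VX) k'.2.1 k''.2.1 kη.2.1 hsB k'.2.2 k''.2.2 kη.2.2
    have ei : i.app W = b.app W ≫ ξ'.i.appLE (b ⁻¹ᵁ W) VX eX'.le := by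
      simp only [Scheme.Hom.app_eq_appLE]
      exact (Scheme.Hom.appLE_comp_appLE ξ'.i b W _ VX le_rfl eX'.le).symm
    rw [ei, CommRingCat.hom_comp]
    exact res
  choose W hpW hW haW hbW using cov
  have hsup : IsOpenCover W := Opens.ext (Set.eq_univ_of_forall fun p => by simpa using ⟨p, hpW p⟩)
  have hflat : Flat F := by
    let 𝒰 : P.OpenCover := P.openCoverOfIsOpenCover W hsup
    have := HasRingHomProperty.instIsZariskiLocalAtSource (P := @Flat.{u}) (Q := RingHom.Flat)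
    rw [IsZariskiLocalAtSource.iff_of_openCover (P := @Flat.{u}) 𝒰]
    intro p
    have h1 : Flat (Spec.map (CommRingCat.ofHom (DefSchLib.str F (W p)))) :=
      Flat.SpecMap_iff.2 (hloc _ (hW p) (haW p) (hbW p)).1
    rw [DefSchLib.specMap_str F (hW p)] at h1
    have h2 : (W p).ι ≫ F = (hW p).isoSpec.hom ≫ ((hW p).fromSpec ≫ F) := by
      rw [← IsAffineOpen.isoSpec_hom_fromSpec (hW p), Category.assoc]
    show Flat ((W p).ι ≫ F)
    rw [h2]
    exact MorphismProperty.IsStableUnderComposition.comp_mem _ _ inferInstance h1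
  have hpb : IsPullback i x F (specRes B) := by
    let 𝒰 : P.OpenCover := Scheme.Cover.copy (P.openCoverOfIsOpenCover W hsup) P
      (fun p => Spec Γ(P, W p)) (fun p => (hW p).fromSpec) (Equiv.refl _) (fun p => (hW p).isoSpec.symm)
      (fun p => (IsAffineOpen.isoSpec_inv_ι (hW p)).symm)
    refine Scheme.isPullback_of_openCover i x F (specRes B) 𝒰 fun p => ?_
    obtain ⟨-, hs, hc, hk⟩ := hloc _ (hW p) (haW p) (hbW p)
    have hVa : IsAffineOpen (i ⁻¹ᵁ W p) := (hbW p).preimage ξ'.i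
    have h1 : IsPullback (Spec.map (i.app (W p))) hVa.fromSpec (hW p).fromSpec i := by
      refine IsOpenImmersion.isPullback _ _ _ _ ?_ ?_
      · rw [Scheme.Hom.app_eq_appLE, IsAffineOpen.SpecMap_appLE_fromSpec i (hW p) hVa le_rfl]
      · rw [IsAffineOpen.opensRange_fromSpec, IsAffineOpen.opensRange_fromSpec]
    have h2 := AffDef.isPullback_of_ker (resHom B) B.res_surjective (DefSchLib.str F (W p)) (i.app (W p)).hom
      (DefSchLib.str x (i ⁻¹ᵁ W p)) hs hc (hk.trans (by rw [ker_resHom]))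
    rw [DefSchLib.specMap_str F (hW p), DefSchLib.specMap_str x hVa, CommRingCat.ofHom_hom] at h2
    let e := h1.flip.isoPullback
    refine h2.of_iso e (Iso.refl _) (Iso.refl _) (Iso.refl _) ?_ ?_ ?_ ?_
    · exact (Category.comp_id _).trans h1.flip.isoPullback_hom_snd.symm
    · exact (Category.comp_id _).trans ((reassoc_of% h1.flip.isoPullback_hom_fst) x).symm
    · simp; rfl
    · simp; rfl
  exact ⟨⟨P, F, hflat, i, hpb⟩, b, a, hbF, rfl, haF, hia, hsq⟩

end Groth.Agent.DefGlue
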